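import Groth.Agent.S14856
import Mathlib

/-!
Witt vectors over a `p`-torsion-free, `p`-adically complete ring.
-/

set_option autoImplicit false

universe u

namespace Groth.Agent.WittPComp

variable {p : ℕ} [Fact p.Prime] {R : Type u} [CommRing R]

/-- `x` and `y` agree in the components below `m` modulo `I`. -/
def Cong (I : Ideal R) (m : ℕ) (x y : WittVector p R) : Prop :=
  ∀ i < m, x.coeff i - y.coeff i ∈ I

theorem cong_iff {I : Ideal R} {m : ℕ} {x y : WittVector p R} :
    Cong I m x y ↔ WittVector.truncate m (WittVector.map (Ideal.Quotient.mk I) x) =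
      WittVector.truncate m (WittVector.map (Ideal.Quotient.mk I) y) := by
  rw [TruncatedWittVector.ext_iff]
  simp only [WittVector.coeff_truncate, WittVector.map_coeff, Ideal.Quotient.eq, Cong]
  exact ⟨fun h i => h i i.2, fun h i hi => h ⟨i, hi⟩⟩

theorem cong_sub_zero {I : Ideal R} {m : ℕ} {x y : WittVector p R} :
    (∀ i < m, (x - y).coeff i ∈ I) ↔ Cong I m x y := by
  rw [show (∀ i < m, (x - y).coeff i ∈ I) ↔ Cong I m (x - y) 0 by simp [Cong], cong_iff, cong_iff,
    map_sub, map_sub, map_zero, map_zero, sub_eq_zero]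

theorem Cong.trans {I : Ideal R} {m : ℕ} {x y z : WittVector p R} (h : Cong I m x y) (h' : Cong I m y z) :
    Cong I m x z := cong_iff.2 ((cong_iff.1 h).trans (cong_iff.1 h'))

theorem Cong.symm {I : Ideal R} {m : ℕ} {x y : WittVector p R} (h : Cong I m x y) : Cong I m y x :=
  cong_iff.2 (cong_iff.1 h).symm

theorem Cong.mul_left {I : Ideal R} {m : ℕ} {x y : WittVector p R} (c : WittVector p R) (h : Cong I m x y) :
    Cong I m (c * x) (c * y) := by
  rw [cong_iff, map_mul, map_mul, map_mul, map_mul, cong_iff.1 h]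

variable (hR : ∀ y : R, (p : R) * y = 0 → y = 0)

include hR in
theorem pow_cancel : ∀ (n : ℕ) (y : R), (p : R) ^ n * y = 0 → y = 0 := by
  intro n
  induction n with
  | zero => intro y h; simpa using h
  | succ n ih => intro y h; exact ih y (hR _ (by rw [← mul_assoc, ← pow_succ']; exact h))

include hR in
theorem coeff_mem_of_pow_mul {w : WittVector p R} {m u j : ℕ} (hj : 1 ≤ j)
    (h : ∀ i < m, ((p : WittVector p R) ^ u * w).coeff i ∈ Ideal.span {(p : R) ^ (u + j)}) :
    ∀ i < m, w.coeff i ∈ Ideal.span {(p : R) ^ j} := by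
  intro i hi
  rw [Ideal.mem_span_singleton]
  refine (Groth.Agent.S14856.result p R hR w i j hj).2 (fun n hn => ?_) i le_rfl
  obtain ⟨c, hc⟩ := (Groth.Agent.S14856.result p R hR ((p : WittVector p R) ^ u * w) i (u + j) (by omega)).1
    (fun k hk => Ideal.mem_span_singleton.1 (h k (by omega))) n hn
  rw [map_mul, map_pow, map_natCast] at hc
  refine ⟨c, sub_eq_zero.1 (pow_cancel hR u _ ?_)⟩
  rw [mul_sub, hc, sub_eq_zero, ← mul_assoc, ← pow_add]
  congr 2
  omega

variable [IsAdicComplete (Ideal.span {(p : R)}) R]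

theorem eq_zero_of_forall_mem {y : R} (h : ∀ j, y ∈ Ideal.span {(p : R) ^ j}) : y = 0 := by
  refine IsHausdorff.haus' (I := Ideal.span {(p : R)}) y fun n => ?_
  rw [SModEq.zero, smul_eq_mul, Ideal.mul_top, Ideal.span_singleton_pow]
  exact h n

include hR in
theorem exists_solution (a : WittVector p R) (m u : ℕ)
    (h : ∀ s : ℕ, ∃ z : WittVector p R, ∀ i < m, ((p : WittVector p R) ^ u * z - a).coeff i ∈ Ideal.span {(p : R) ^ s}) :
    ∃ x : WittVector p R, ∀ i < m, ((p : WittVector p R) ^ u * x - a).coeff i = 0 := by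
  choose z hz using h
  have hmono : ∀ {s t : ℕ}, s ≤ t → ∀ {x y : WittVector p R}, Cong (Ideal.span {(p : R) ^ t}) m x y →
      Cong (Ideal.span {(p : R) ^ s}) m x y := by
    intro s t hst x y hxy i hi
    exact Ideal.span_singleton_le_span_singleton.2 (pow_dvd_pow _ hst) (hxy i hi)
  have key : ∀ s t, s ≤ t → Cong (Ideal.span {(p : R) ^ (s + 1)}) m (z (u + s + 1)) (z (u + t + 1)) := by
    intro s t hst
    have h1 := (cong_sub_zero.1 (hz (u + s + 1))).trans (hmono (by omega) (cong_sub_zero.1 (hz (u + t + 1)))).symm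
    refine cong_sub_zero.1 (coeff_mem_of_pow_mul (u := u) hR (Nat.le_add_left 1 s) ?_)
    rw [mul_sub]
    exact cong_sub_zero.2 (by rwa [← add_assoc])
  have hlim : ∀ i, ∃ c : R, ∀ s, i < m → (z (u + s + 1)).coeff i - c ∈ Ideal.span {(p : R) ^ s} := by
    intro i
    by_cases hi : i < m
    · obtain ⟨c, hc⟩ := IsPrecomplete.prec (I := Ideal.span {(p : R)}) (inferInstance : IsPrecomplete (Ideal.span {(p : R)}) R)
        (f := fun s => (z (u + s + 1)).coeff i) (fun {s t} hst => by
          rw [SModEq.sub_mem, smul_eq_mul, Ideal.mul_top, Ideal.span_singleton_pow]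
          exact Ideal.span_singleton_le_span_singleton.2 (pow_dvd_pow _ (Nat.le_succ s)) (key s t hst i hi))
      refine ⟨c, fun s _ => ?_⟩
      have := hc s
      rwa [SModEq.sub_mem, smul_eq_mul, Ideal.mul_top, Ideal.span_singleton_pow] at this
    · exact ⟨0, fun s h => absurd h hi⟩
  choose c hc using hlim
  refine ⟨WittVector.mk p c, fun i hi => eq_zero_of_forall_mem (p := p) fun s => ?_⟩
  have h1 : Cong (Ideal.span {(p : R) ^ s}) m (z (u + s + 1)) (WittVector.mk p c) := fun j hj => hc j s hj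
  exact cong_sub_zero.2 ((h1.mul_left ((p : WittVector p R) ^ u)).symm.trans
    (hmono (by omega) (cong_sub_zero.1 (hz (u + s + 1))))) i hi

include hR in
theorem iInf_eq (u : ℕ) : (⨅ r : ℕ, ⨅ s : ℕ,
        Ideal.span {(p : WittVector p R) ^ u} ⊔ RingHom.ker (WittVector.truncate (p := p) (R := R) r) ⊔
          RingHom.ker (WittVector.map (p := p) (Ideal.Quotient.mk (Ideal.span {(p : R) ^ s})))) =
      Ideal.span {(p : WittVector p R) ^ u} := by
  refine le_antisymm (fun a ha => ?_) (le_iInf fun r => le_iInf fun s => le_sup_left.trans le_sup_left)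
  simp only [Submodule.mem_iInf] at ha
  have hsol : ∀ r, ∃ x : WittVector p R, ∀ i < r, ((p : WittVector p R) ^ u * x - a).coeff i = 0 := by
    intro r
    refine exists_solution hR a r u fun s => ?_
    obtain ⟨w, hw, e2, he2, rfl⟩ := Submodule.mem_sup.1 (ha r s)
    obtain ⟨y, hy, e1, he1, rfl⟩ := Submodule.mem_sup.1 hw
    obtain ⟨z, rfl⟩ := Ideal.mem_span_singleton.1 hy
    refine ⟨z, cong_sub_zero.2 (cong_iff.2 ?_)⟩
    have h1 : WittVector.truncate r (WittVector.map (Ideal.Quotient.mk (Ideal.span {(p : R) ^ s})) e1) = 0 := by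
      rw [← RingHom.mem_ker, WittVector.mem_ker_truncate]
      intro i hi
      rw [WittVector.map_coeff, (WittVector.mem_ker_truncate r e1).1 he1 i hi, map_zero]
    rw [map_add, map_add, map_add, map_add, h1, RingHom.mem_ker.1 he2, map_zero, add_zero, add_zero]
  choose x hx using hsol
  refine Ideal.mem_span_singleton.2 ⟨WittVector.mk p fun i => (x (i + 1)).coeff i, ?_⟩
  ext i
  have huniq : ∀ r i, i < r → (x (i + 1)).coeff i = (x r).coeff i := by
    intro r i hi
    refine sub_eq_zero.1 (eq_zero_of_forall_mem (p := p) fun j => ?_)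
    refine Ideal.span_singleton_le_span_singleton.2 (pow_dvd_pow _ (Nat.le_succ j)) ?_
    refine cong_sub_zero.1 (coeff_mem_of_pow_mul (m := i + 1) (u := u) hR (Nat.le_add_left 1 j) ?_) i (Nat.lt_succ_self i)
    rw [mul_sub]
    refine cong_sub_zero.2 ?_
    have A : Cong (Ideal.span {(p : R) ^ (u + (j + 1))}) (i + 1) ((p : WittVector p R) ^ u * x (i + 1)) a :=
      cong_sub_zero.1 fun k hk => by rw [hx _ k hk]; exact zero_mem _
    have B : Cong (Ideal.span {(p : R) ^ (u + (j + 1))}) (i + 1) ((p : WittVector p R) ^ u * x r) a :=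
      cong_sub_zero.1 fun k hk => by rw [hx _ k (by omega)]; exact zero_mem _
    exact A.trans B.symm
  have h2 : Cong (⊥ : Ideal R) (i + 1) a ((p : WittVector p R) ^ u * WittVector.mk p fun i => (x (i + 1)).coeff i) := by
    have h3 : Cong (⊥ : Ideal R) (i + 1) (x (i + 1)) (WittVector.mk p fun i => (x (i + 1)).coeff i) :=
      fun k hk => by
        rw [Submodule.mem_bot, sub_eq_zero]
        exact (huniq (i + 1) k hk).symm
    have h4 : Cong (⊥ : Ideal R) (i + 1) ((p : WittVector p R) ^ u * x (i + 1)) a :=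
      cong_sub_zero.1 fun k hk => by rw [hx _ k hk]; exact zero_mem _
    exact h4.symm.trans (h3.mul_left _)
  exact sub_eq_zero.1 ((Submodule.mem_bot R).1 (h2 i (Nat.lt_succ_self i)))

end Groth.Agent.WittPComp
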